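import Groth.Prelude.Def_PBC
import Mathlib.RingTheory.Localization.AtPrime.Basic
import Mathlib.RingTheory.Spectrum.Prime.Topology
import Mathlib.RingTheory.LocalProperties.Basic
import Mathlib.RingTheory.Flat.Localization

/-!
# Ring maps identifying local rings: elementwise reformulation and a bijectivity criterion
-/

set_option autoImplicit false
universe u

namespace Groth.Agent.Proet2.IdentLoc

variable {A B : Type u} [CommRing A] [CommRing B] [Algebra A B]

/-- Elementwise form of injectivity of `A_p → B_q`. -/
theorem exists_mul_eq_zero (q : PrimeSpectrum B)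
    (h : Function.Injective
      (Localization.localRingHom (q.asIdeal.comap (algebraMap A B)) q.asIdeal (algebraMap A B) rfl))
    (a : A) (s : B) (hs : s ∉ q.asIdeal) (hsa : s * algebraMap A B a = 0) :
    ∃ t : A, algebraMap A B t ∉ q.asIdeal ∧ t * a = 0 := by
  have h1 : algebraMap B (Localization.AtPrime q.asIdeal) (algebraMap A B a) = 0 :=
    (IsLocalization.map_eq_zero_iff q.asIdeal.primeCompl _ _).mpr ⟨⟨s, hs⟩, hsa⟩
  have h2 : Localization.localRingHom (q.asIdeal.comap (algebraMap A B)) q.asIdeal
      (algebraMap A B) rfl (algebraMap A _ a) = 0 := by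
    rw [Localization.localRingHom_to_map, h1]
  have h3 := h (h2.trans (map_zero _).symm)
  obtain ⟨⟨t, ht⟩, hta⟩ := (IsLocalization.map_eq_zero_iff
    (q.asIdeal.comap (algebraMap A B)).primeCompl _ _).mp h3
  exact ⟨t, ht, hta⟩

/-- Elementwise form of surjectivity of `A_p → B_q`. -/
theorem exists_mul_sub_eq_zero (q : PrimeSpectrum B)
    (h : Function.Surjective
      (Localization.localRingHom (q.asIdeal.comap (algebraMap A B)) q.asIdeal (algebraMap A B) rfl))
    (b : B) :
    ∃ (a t : A) (v : B), algebraMap A B t ∉ q.asIdeal ∧ v ∉ q.asIdeal ∧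
      v * (algebraMap A B t * b - algebraMap A B a) = 0 := by
  obtain ⟨x, hx⟩ := h (algebraMap B (Localization.AtPrime q.asIdeal) b)
  obtain ⟨⟨a, ⟨t, ht⟩⟩, rfl⟩ := IsLocalization.mk'_surjective
    (q.asIdeal.comap (algebraMap A B)).primeCompl x
  simp only at hx
  rw [Localization.localRingHom_mk', IsLocalization.mk'_eq_iff_eq_mul, ← map_mul,
    IsLocalization.eq_iff_exists q.asIdeal.primeCompl] at hx
  obtain ⟨⟨v, hv⟩, hvx⟩ := hx
  refine ⟨a, t, v, ht, hv, ?_⟩
  simp only at hvx
  rw [mul_sub, hvx]
  ring

/-- Conversely, an elementwise criterion for identifying local rings at `q`. -/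
theorem bijective_localRingHom (q : PrimeSpectrum B)
    (hinj : ∀ (a : A) (s : B), s ∉ q.asIdeal → s * algebraMap A B a = 0 →
      ∃ t : A, algebraMap A B t ∉ q.asIdeal ∧ t * a = 0)
    (hsurj : ∀ b : B, ∃ (a t : A) (v : B), algebraMap A B t ∉ q.asIdeal ∧ v ∉ q.asIdeal ∧
      v * (algebraMap A B t * b - algebraMap A B a) = 0) :
    Function.Bijective
      (Localization.localRingHom (q.asIdeal.comap (algebraMap A B)) q.asIdeal
        (algebraMap A B) rfl) := by
  constructor
  · rw [injective_iff_map_eq_zero]
    intro x hx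
    obtain ⟨⟨a, ⟨t, ht⟩⟩, rfl⟩ := IsLocalization.mk'_surjective
      (q.asIdeal.comap (algebraMap A B)).primeCompl x
    simp only at hx ⊢
    rw [Localization.localRingHom_mk', IsLocalization.mk'_eq_zero_iff] at hx
    obtain ⟨⟨s, hs⟩, hsa⟩ := hx
    obtain ⟨t', ht', hta⟩ := hinj a s hs hsa
    rw [IsLocalization.mk'_eq_zero_iff]
    exact ⟨⟨t', ht'⟩, hta⟩
  · intro y
    obtain ⟨⟨b, ⟨s, hs⟩⟩, rfl⟩ := IsLocalization.mk'_surjective q.asIdeal.primeCompl y
    simp only
    obtain ⟨a, t, v, ht, hv, hab⟩ := hsurj b
    obtain ⟨a', t', v', ht', hv', hab'⟩ := hsurj s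
    -- `a' ∉ p`, since `t' s = a'` in `B_q`
    have ha' : algebraMap A B a' ∉ q.asIdeal := by
      intro hmem
      have h1 : v' * (algebraMap A B t' * s) ∈ q.asIdeal := by
        have : v' * (algebraMap A B t' * s) = v' * algebraMap A B a' := by
          rw [mul_sub] at hab'
          exact sub_eq_zero.mp hab'
        rw [this]
        exact q.asIdeal.mul_mem_left _ hmem
      rcases q.isPrime.mem_or_mem h1 with h2 | h2
      · exact hv' h2
      · rcases q.isPrime.mem_or_mem h2 with h3 | h3
        · exact ht' h3
        · exact hs h3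
    refine ⟨IsLocalization.mk' _ (a * t')
      (⟨t * a', fun hmem ↦ ?_⟩ : (q.asIdeal.comap (algebraMap A B)).primeCompl), ?_⟩
    · rw [SetLike.mem_coe, Ideal.mem_comap, map_mul] at hmem
      rcases q.isPrime.mem_or_mem hmem with h2 | h2
      · exact ht h2
      · exact ha' h2
    rw [Localization.localRingHom_mk', IsLocalization.mk'_eq_iff_eq]
    simp only
    rw [IsLocalization.eq_iff_exists q.asIdeal.primeCompl]
    refine ⟨⟨v * v', fun hmem ↦ ?_⟩, ?_⟩
    · rcases q.isPrime.mem_or_mem hmem with h2 | h2
      · exact hv h2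
      · exact hv' h2
    · simp only [map_mul]
      have e1 : v * algebraMap A B a = v * (algebraMap A B t * b) := by
        rw [mul_sub] at hab
        exact (sub_eq_zero.mp hab).symm
      have e2 : v' * (algebraMap A B t' * s) = v' * algebraMap A B a' := by
        rw [mul_sub] at hab'
        exact sub_eq_zero.mp hab'
      calc v * v' * (s * (algebraMap A B a * algebraMap A B t'))
          = (v * algebraMap A B a) * (v' * (algebraMap A B t' * s)) := by ring
        _ = (v * (algebraMap A B t * b)) * (v' * algebraMap A B a') := by rw [e1, e2]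
        _ = v * v' * (algebraMap A B t * algebraMap A B a' * b) := by ring

/-- A ring map identifying local rings is bijective as soon as over every maximal ideal `m` of `A` there is
a prime `n` of `B` containing all the primes of `B` lying over generizations of `m`. -/
theorem bijective_of_identifiesLocalRings (h1 : EtPBC.IdentifiesLocalRings A B)
    (H : ∀ m : Ideal A, m.IsMaximal → ∃ n : PrimeSpectrum B,
      n.asIdeal.comap (algebraMap A B) = m ∧
      ∀ q : PrimeSpectrum B, q.asIdeal.comap (algebraMap A B) ≤ m → q.asIdeal ≤ n.asIdeal) :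
    Function.Bijective (algebraMap A B) := by
  constructor
  · rw [injective_iff_map_eq_zero]
    intro a ha
    -- the annihilator of `a` is not contained in a maximal ideal
    by_contra hne
    have hann : Ideal.span {a} ≠ ⊥ := by simpa using hne
    let I : Ideal A := LinearMap.ker (LinearMap.toSpanSingleton A A a)
    have hI : I ≠ ⊤ := by
      intro htop
      have : (1 : A) ∈ I := htop ▸ Submodule.mem_top
      rw [LinearMap.mem_ker, LinearMap.toSpanSingleton_apply, one_smul] at this
      exact hne this
    obtain ⟨m, hm, hIm⟩ := Ideal.exists_le_maximal I hI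
    obtain ⟨n, hn, -⟩ := H m hm
    obtain ⟨t, ht, hta⟩ := exists_mul_eq_zero n (h1 n).1 a 1
      (fun h ↦ n.isPrime.ne_top ((Ideal.eq_top_iff_one _).mpr h)) (by rw [ha, mul_zero])
    apply ht
    have : t ∈ n.asIdeal.comap (algebraMap A B) := by
      rw [hn]
      apply hIm
      rw [LinearMap.mem_ker, LinearMap.toSpanSingleton_apply, smul_eq_mul, hta]
    exact this
  · intro b
    let I : Ideal A := Submodule.comap (LinearMap.toSpanSingleton A B b)
      (LinearMap.range (Algebra.linearMap A B))
    have hmemI : ∀ s : A, s ∈ I ↔ ∃ a : A, algebraMap A B a = algebraMap A B s * b := by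
      intro s
      rw [Submodule.mem_comap, LinearMap.toSpanSingleton_apply, LinearMap.mem_range]
      simp only [Algebra.linearMap_apply, Algebra.smul_def]
    have hI : I = ⊤ := by
      by_contra hI
      obtain ⟨m, hm, hIm⟩ := Ideal.exists_le_maximal I hI
      obtain ⟨n, hn, hq⟩ := H m hm
      obtain ⟨a, s, v, hs, hv, hvx⟩ := exists_mul_sub_eq_zero n (h1 n).2 b
      -- the annihilator of `x = s b - a` in `B`
      set x := algebraMap A B s * b - algebraMap A B a with hx
      let J : Ideal B := LinearMap.ker (LinearMap.toSpanSingleton B B x)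
      have hvJ : v ∈ J := by
        rw [LinearMap.mem_ker, LinearMap.toSpanSingleton_apply, smul_eq_mul]
        exact hvx
      have key : ∃ t ∈ m.primeCompl, algebraMap A B t ∈ J := by
        by_contra hcon
        push Not at hcon
        have hdisj : Disjoint (J : Set B)
            ((m.primeCompl.map (algebraMap A B) : Submonoid B) : Set B) := by
          rw [Set.disjoint_left]
          rintro y hyJ ⟨t, ht, rfl⟩
          exact hcon t ht hyJ
        obtain ⟨Q, hQ, hJQ, hQd⟩ := Ideal.exists_le_prime_disjoint J _ hdisj
        have hle : Q ≤ n.asIdeal := hq ⟨Q, hQ⟩ (by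
          intro t ht
          by_contra htm
          rw [Set.disjoint_left] at hQd
          exact hQd ht ⟨t, htm, rfl⟩)
        exact hv (hle (hJQ hvJ))
      obtain ⟨t, ht, htJ⟩ := key
      rw [LinearMap.mem_ker, LinearMap.toSpanSingleton_apply, smul_eq_mul] at htJ
      have hts : t * s ∈ I := by
        rw [hmemI]
        refine ⟨t * a, ?_⟩
        rw [map_mul, map_mul]
        have : algebraMap A B t * (algebraMap A B s * b) - algebraMap A B t * algebraMap A B a = 0 := by
          rw [← mul_sub]; exact htJ
        rw [sub_eq_zero] at this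
        rw [← this, mul_assoc]
      rcases hm.isPrime.mem_or_mem (hIm hts) with h | h
      · exact ht h
      · apply hs
        have : s ∈ n.asIdeal.comap (algebraMap A B) := by rw [hn]; exact h
        exact this
    have h1 : (1 : A) ∈ I := hI ▸ Submodule.mem_top
    rw [hmemI] at h1
    obtain ⟨a, ha⟩ := h1
    exact ⟨a, by rw [ha, map_one, one_mul]⟩

end Groth.Agent.Proet2.IdentLoc
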