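import Groth.Agent.Proet2.WLocal
import Groth.Agent.Proet2.IdentLoc
import Groth.Agent.EtpbcB.IdLoc
import Mathlib.Topology.ExtremallyDisconnected

/-!
# Retractions of ring maps identifying local rings over a w-local base with extremally disconnected `π₀`
-/

set_option autoImplicit false
universe u

open Topology Groth.Agent.Proet.Spectral Groth.Agent.Proet.SpectralPi0 Groth.Agent.Proet2.WLocal

namespace Groth.Agent.Proet2.ZarRetract

variable {A B : Type u} [CommRing A] [CommRing B] [Algebra A B]

/-- If `A → B` identifies local rings, a prime of `B` over a maximal ideal of `A` is maximal. -/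
theorem isMaximal_of_comap_isMaximal (h : EtPBC.IdentifiesLocalRings A B) (y : PrimeSpectrum B)
    (hy : (y.asIdeal.comap (algebraMap A B)).IsMaximal) : y.asIdeal.IsMaximal := by
  obtain ⟨M, hM, hyM⟩ := Ideal.exists_le_maximal y.asIdeal y.isPrime.ne_top
  have hcomap : y.asIdeal.comap (algebraMap A B) = M.comap (algebraMap A B) :=
    hy.eq_of_le (Ideal.comap_ne_top _ hM.ne_top) (Ideal.comap_mono hyM)
  have : y.asIdeal = M := by
    apply le_antisymm hyM
    intro b hb
    obtain ⟨a, t, v, ht, hv, hab⟩ :=
      IdentLoc.exists_mul_sub_eq_zero ⟨M, hM.isPrime⟩ (h ⟨M, hM.isPrime⟩).2 b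
    change algebraMap A B t ∉ M at ht
    change v ∉ M at hv
    rw [mul_sub, sub_eq_zero] at hab
    have ha : v * algebraMap A B a ∈ M := by
      rw [← hab]
      exact M.mul_mem_left _ (M.mul_mem_left _ hb)
    have ha' : a ∈ M.comap (algebraMap A B) := (hM.isPrime.mem_or_mem ha).resolve_left hv
    rw [← hcomap] at ha'
    have h1 : v * (algebraMap A B t * b) ∈ y.asIdeal := by
      rw [hab]
      exact y.asIdeal.mul_mem_left _ ha'
    rcases y.isPrime.mem_or_mem h1 with h2 | h2
    · exact absurd (hyM h2) hv
    · rcases y.isPrime.mem_or_mem h2 with h3 | h3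
      · exact absurd (hyM h3) ht
      · exact h3
  rw [this]
  exact hM

theorem isClosed_singleton_of_mem (h : EtPBC.IdentifiesLocalRings A B) (y : PrimeSpectrum B)
    (hy : PrimeSpectrum.comap (algebraMap A B) y ∈ ProEtW.closedPoints (PrimeSpectrum A)) :
    IsClosed ({y} : Set (PrimeSpectrum B)) := by
  rw [PrimeSpectrum.isClosed_singleton_iff_isMaximal]
  exact isMaximal_of_comap_isMaximal h y
    ((PrimeSpectrum.isClosed_singleton_iff_isMaximal _).mp hy)

/-- Over a w-local ring `A` with extremally disconnected `π₀(Spec A)`, a surjective (on spectra) ring map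
`A → B` identifying local rings admits a continuous section over the closed points, with closed image. -/
theorem exists_section (hA : ProEtW.IsWLocal (PrimeSpectrum A))
    (hED : ExtremallyDisconnected (ConnectedComponents (PrimeSpectrum A)))
    (h : EtPBC.IdentifiesLocalRings A B)
    (hsurj : Function.Surjective (PrimeSpectrum.comap (algebraMap A B))) :
    ∃ s : ProEtW.closedPoints (PrimeSpectrum A) → PrimeSpectrum B,
      (∀ x, PrimeSpectrum.comap (algebraMap A B) (s x) = x.1) ∧ IsClosed (Set.range s) := by
  let X := PrimeSpectrum A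
  let X₀ := ProEtW.closedPoints (PrimeSpectrum A)
  let f : PrimeSpectrum B → PrimeSpectrum A := PrimeSpectrum.comap (algebraMap A B)
  have hf : Continuous f := PrimeSpectrum.continuous_comap _
  let Y : Set (PrimeSpectrum B) := f ⁻¹' X₀
  have hY : IsClosed Y := (isClosed_closedPoints hA).preimage hf
  have hspec : SpectralSpace Y := spectralSpace_of_isClosed hY
  have hT1 : T1Space Y := by
    refine ⟨fun y ↦ ?_⟩
    rw [hY.isClosedEmbedding_subtypeVal.isClosed_iff_image_isClosed, Set.image_singleton]
    exact isClosed_singleton_of_mem h y.1 y.2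
  have hT2 : T2Space Y := t2Space_of_t1Space
  have hcpt : CompactSpace Y := inferInstance
  have hX1 := compactSpace_closedPoints hA
  have hX2 := t2Space_closedPoints hA
  have hspecA : T2Space (ConnectedComponents (PrimeSpectrum A)) := t2Space_connectedComponents
  let g : Y → X₀ := fun y ↦ ⟨f y.1, y.2⟩
  have hg : Continuous g := (hf.comp continuous_subtype_val).subtype_mk _
  have hgs : Function.Surjective g := by
    intro x
    obtain ⟨y, hy⟩ := hsurj x.1
    have hyY : y ∈ Y := by
      change f y ∈ X₀
      have : f y = x.1 := hy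
      rw [this]
      exact x.2
    exact ⟨⟨y, hyY⟩, Subtype.ext hy⟩
  have hproj : CompactT2.Projective (ConnectedComponents (PrimeSpectrum A)) :=
    CompactT2.ExtremallyDisconnected.projective
  obtain ⟨σ, hσ, hgσ⟩ := hproj (f := (homeo hA).symm) (g := g) (homeo hA).symm.continuous hg hgs
  refine ⟨fun x ↦ (σ (homeo hA x)).1, ?_, ?_⟩
  · intro x
    have h1 := congr_fun hgσ (homeo hA x)
    simp only [Function.comp_apply, Homeomorph.symm_apply_apply] at h1
    exact congr_arg Subtype.val h1
  · have hcont : Continuous (fun x : X₀ ↦ σ (homeo hA x)) := hσ.comp (homeo hA).continuous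
    have h1 : IsClosed (Set.range (fun x : X₀ ↦ σ (homeo hA x))) :=
      (isCompact_range hcont).isClosed
    have h2 := hY.isClosedEmbedding_subtypeVal.isClosedMap _ h1
    rwa [← Set.range_comp] at h2

/-- Over a w-local ring `A` with extremally disconnected `π₀(Spec A)`, a ring map `A → B` identifying local
rings and surjective on spectra has a retraction. -/
theorem exists_retraction (hA : ProEtW.IsWLocal (PrimeSpectrum A))
    (hED : ExtremallyDisconnected (ConnectedComponents (PrimeSpectrum A)))
    (h : EtPBC.IdentifiesLocalRings A B)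
    (hsurj : Function.Surjective (PrimeSpectrum.comap (algebraMap A B))) :
    Nonempty (B →ₐ[A] A) := by
  obtain ⟨s, hs, hcl⟩ := exists_section hA hED h hsurj
  let Z : Set (PrimeSpectrum B) := Set.range s
  let S : Submonoid B := ⨅ x, (s x).asIdeal.primeCompl
  have hmemS : ∀ b : B, b ∈ S ↔ ∀ x, b ∉ (s x).asIdeal := by
    intro b
    simp only [S, Submonoid.mem_iInf]
    rfl
  let C := Localization S
  have hAC : EtPBC.IdentifiesLocalRings A C := by
    rw [EtpbcB.IdLoc.identifiesLocalRings_iff, IsScalarTower.algebraMap_eq A B C]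
    rw [EtpbcB.IdLoc.identifiesLocalRings_iff] at h
    exact h.comp (EtpbcB.IdLoc.IdLoc.of_isLocalization S)
  -- primes of `C`
  have hrange := PrimeSpectrum.localization_comap_range C S
  have hbij : Function.Bijective (algebraMap A C) := by
    apply IdentLoc.bijective_of_identifiesLocalRings hAC
    intro m hm
    let p : PrimeSpectrum A := ⟨m, hm.isPrime⟩
    have hp : p ∈ ProEtW.closedPoints (PrimeSpectrum A) :=
      (PrimeSpectrum.isClosed_singleton_iff_isMaximal p).mpr hm
    have hdisj : Disjoint (S : Set B) (s ⟨p, hp⟩).asIdeal := by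
      rw [Set.disjoint_left]
      intro b hb hb'
      exact (hmemS b).mp hb ⟨p, hp⟩ hb'
    have hmem : s ⟨p, hp⟩ ∈ Set.range (PrimeSpectrum.comap (algebraMap B C)) := by
      rw [hrange]
      exact hdisj
    obtain ⟨n, hn⟩ := hmem
    refine ⟨n, ?_, ?_⟩
    · rw [IsScalarTower.algebraMap_eq A B C, ← Ideal.comap_comap]
      have h1 : n.asIdeal.comap (algebraMap B C) = (s ⟨p, hp⟩).asIdeal :=
        congr_arg PrimeSpectrum.asIdeal hn
      rw [h1]
      exact congr_arg PrimeSpectrum.asIdeal (hs ⟨p, hp⟩)
    · intro q hq
      -- the prime of `B` below `q`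
      let qB : PrimeSpectrum B := PrimeSpectrum.comap (algebraMap B C) q
      have hqB : Disjoint (S : Set B) qB.asIdeal := by
        have : qB ∈ Set.range (PrimeSpectrum.comap (algebraMap B C)) := ⟨q, rfl⟩
        rw [hrange] at this
        exact this
      have hle : ∃ x, qB.asIdeal ≤ (s x).asIdeal := by
        let J : Ideal B := PrimeSpectrum.vanishingIdeal Z
        have hJ : PrimeSpectrum.zeroLocus (J : Set B) = Z := by
          rw [PrimeSpectrum.zeroLocus_vanishingIdeal_eq_closure, hcl.closure_eq]
        have hne : qB.asIdeal ⊔ J ≠ ⊤ := by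
          intro htop
          have h1 : (1 : B) ∈ qB.asIdeal ⊔ J := htop ▸ Submodule.mem_top
          obtain ⟨b, hb, j, hj, hbj⟩ := Submodule.mem_sup.mp h1
          rw [Set.disjoint_left] at hqB
          refine hqB (a := b) ((hmemS b).mpr ?_) hb
          intro x hbx
          have hjx : j ∈ (s x).asIdeal := by
            have h2 := (PrimeSpectrum.mem_vanishingIdeal Z j).mp hj (s x) ⟨x, rfl⟩
            exact h2
          apply (s x).isPrime.ne_top
          rw [Ideal.eq_top_iff_one, ← hbj]
          exact (s x).asIdeal.add_mem hbx hjx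
        obtain ⟨M, hM, hMle⟩ := Ideal.exists_le_maximal _ hne
        have hMZ : (⟨M, hM.isPrime⟩ : PrimeSpectrum B) ∈ Z := by
          rw [← hJ]
          exact le_sup_right.trans hMle
        obtain ⟨x, hx⟩ := hMZ
        refine ⟨x, ?_⟩
        rw [hx]
        exact le_sup_left.trans hMle
      obtain ⟨x, hx⟩ := hle
      -- `x = p` since both are closed specializations of the image of `q`
      have hxp : x.1 = p := by
        have h1 : PrimeSpectrum.comap (algebraMap A B) qB ⤳ x.1 := by
          rw [← PrimeSpectrum.le_iff_specializes, ← hs x]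
          exact Ideal.comap_mono hx
        have h2 : PrimeSpectrum.comap (algebraMap A B) qB ⤳ p := by
          rw [← PrimeSpectrum.le_iff_specializes]
          have : q.asIdeal.comap (algebraMap A C) ≤ m := hq
          rw [IsScalarTower.algebraMap_eq A B C, ← Ideal.comap_comap] at this
          exact this
        rw [← closedPt_eq hA x.2 h1, ← closedPt_eq hA hp h2]
      have hx' : x = ⟨p, hp⟩ := Subtype.ext hxp
      rw [hx'] at hx
      have h3 : q.asIdeal.comap (algebraMap B C) ≤ n.asIdeal.comap (algebraMap B C) := by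
        have h1 : n.asIdeal.comap (algebraMap B C) = (s ⟨p, hp⟩).asIdeal :=
          congr_arg PrimeSpectrum.asIdeal hn
        rw [h1]
        exact hx
      intro c hc
      obtain ⟨b, σ, rfl⟩ := IsLocalization.exists_mk'_eq S c
      rw [IsLocalization.mk'_mem_iff] at hc ⊢
      exact h3 hc
  let e : A ≃ₐ[A] C := AlgEquiv.ofBijective (Algebra.ofId A C) hbij
  exact ⟨e.symm.toAlgHom.comp (IsScalarTower.toAlgHom A B C)⟩

end Groth.Agent.Proet2.ZarRetract
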