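import Groth.Prelude.Def_ProEtW
import Groth.Agent.Proet.Spectral
import Groth.Agent.Proet.SpectralPi0

/-!
# w-local spaces: the closed points are the connected components

For a w-local space `X` with set of closed points `X₀`:
* `closedPt hX x`: the unique closed specialization of `x`;
* `mk_eq_mk_iff`: two points are in the same component iff they have the same closed specialization;
* `homeo hX : closedPoints X ≃ₜ ConnectedComponents X`.
-/

set_option autoImplicit false
universe u

open Topology Groth.Agent.Proet.Spectral Groth.Agent.Proet.SpectralPi0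

namespace Groth.Agent.Proet2.WLocal

variable {X : Type u} [TopologicalSpace X]

/-- The unique closed point to which `x` specializes. -/
noncomputable def closedPt (hX : ProEtW.IsWLocal X) (x : X) : X := (hX.2.2 x).choose

theorem isClosed_closedPt (hX : ProEtW.IsWLocal X) (x : X) :
    IsClosed ({closedPt hX x} : Set X) := (hX.2.2 x).choose_spec.1.1

theorem specializes_closedPt (hX : ProEtW.IsWLocal X) (x : X) : x ⤳ closedPt hX x :=
  (hX.2.2 x).choose_spec.1.2

theorem closedPt_eq (hX : ProEtW.IsWLocal X) {x y : X} (hy : IsClosed ({y} : Set X))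
    (h : x ⤳ y) : closedPt hX x = y :=
  ((hX.2.2 x).choose_spec.2 y ⟨hy, h⟩).symm

theorem closedPt_eq_self (hX : ProEtW.IsWLocal X) {x : X} (hx : IsClosed ({x} : Set X)) :
    closedPt hX x = x := closedPt_eq hX hx specializes_rfl

theorem closedPt_eq_of_specializes (hX : ProEtW.IsWLocal X) {x y : X} (h : x ⤳ y) :
    closedPt hX x = closedPt hX y :=
  closedPt_eq hX (isClosed_closedPt hX y) (h.trans (specializes_closedPt hX y))

theorem isClosed_closedPoints (hX : ProEtW.IsWLocal X) : IsClosed (ProEtW.closedPoints X) :=
  hX.2.1

theorem closedPt_mem (hX : ProEtW.IsWLocal X) (x : X) : closedPt hX x ∈ ProEtW.closedPoints X :=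
  isClosed_closedPt hX x

/-- A closed set contains the closed specialization of each of its points. -/
theorem closedPt_mem_of_isClosed (hX : ProEtW.IsWLocal X) {Z : Set X} (hZ : IsClosed Z) {x : X}
    (hx : x ∈ Z) : closedPt hX x ∈ Z :=
  (specializes_closedPt hX x).mem_closed hZ hx

theorem t1Space_closedPoints (hX : ProEtW.IsWLocal X) : T1Space (ProEtW.closedPoints X) := by
  refine ⟨fun x ↦ ?_⟩
  rw [(isClosed_closedPoints hX).isClosedEmbedding_subtypeVal.isClosed_iff_image_isClosed,
    Set.image_singleton]
  exact x.2

theorem spectralSpace_closedPoints (hX : ProEtW.IsWLocal X) :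
    SpectralSpace (ProEtW.closedPoints X) := by
  have := hX.1
  exact spectralSpace_of_isClosed (isClosed_closedPoints hX)

theorem t2Space_closedPoints (hX : ProEtW.IsWLocal X) : T2Space (ProEtW.closedPoints X) := by
  have := spectralSpace_closedPoints hX
  have := t1Space_closedPoints hX
  exact t2Space_of_t1Space

theorem compactSpace_closedPoints (hX : ProEtW.IsWLocal X) :
    CompactSpace (ProEtW.closedPoints X) := by
  have := spectralSpace_closedPoints hX
  infer_instance

/-- The generizations of a closed set of closed points form a closed set. -/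
theorem isClosed_preimage_closedPt (hX : ProEtW.IsWLocal X) {K : Set X} (hK : IsClosed K)
    (hKc : K ⊆ ProEtW.closedPoints X) : IsClosed (closedPt hX ⁻¹' K) := by
  have := hX.1
  have h1 : closedPt hX ⁻¹' K = {x | ∃ e ∈ K, x ⤳ e} := by
    ext x
    constructor
    · intro hx
      exact ⟨closedPt hX x, hx, specializes_closedPt hX x⟩
    · rintro ⟨e, he, hxe⟩
      rw [Set.mem_preimage, closedPt_eq hX (hKc he) hxe]
      exact he
  rw [h1]
  refine isClosed_of_isProCons (isProCons_generizations hK.isCompact) ?_
  rw [← h1]
  intro x y hxy hx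
  rw [Set.mem_preimage] at hx ⊢
  rwa [← closedPt_eq_of_specializes hX hxy]

/-- `closedPt`, as a map to the subspace of closed points, is continuous. -/
theorem continuous_closedPt (hX : ProEtW.IsWLocal X) :
    Continuous (fun x ↦ (⟨closedPt hX x, closedPt_mem hX x⟩ : ProEtW.closedPoints X)) := by
  rw [continuous_iff_isClosed]
  intro K hK
  have hK' : IsClosed (Subtype.val '' K : Set X) :=
    (isClosed_closedPoints hX).isClosedEmbedding_subtypeVal.isClosedMap _ hK
  have h1 := isClosed_preimage_closedPt hX hK' (by rintro _ ⟨y, -, rfl⟩; exact y.2)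
  convert h1 using 1
  ext x
  constructor
  · intro hx
    exact ⟨_, hx, rfl⟩
  · rintro ⟨y, hy, hyx⟩
    have : y = ⟨closedPt hX x, closedPt_mem hX x⟩ := Subtype.ext hyx
    rw [Set.mem_preimage, ← this]
    exact hy

theorem totallyDisconnectedSpace_closedPoints (hX : ProEtW.IsWLocal X) :
    TotallyDisconnectedSpace (ProEtW.closedPoints X) := by
  have h1 := spectralSpace_closedPoints hX
  have h2 := t2Space_closedPoints hX
  have h3 := compactSpace_closedPoints hX
  rw [loc_compact_t2_tot_disc_iff_tot_sep, totallySeparatedSpace_iff_exists_isClopen]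
  intro x y hxy
  obtain ⟨W, hW⟩ := exists_CONhd_subset (X := ProEtW.closedPoints X) (x := x) (U := {y}ᶜ)
    isOpen_compl_singleton hxy
  exact ⟨W.1, ⟨W.2.1.2.isClosed, W.2.1.1⟩, W.2.2, fun hy ↦ hW hy rfl⟩

/-- Two points of a w-local space lie in the same connected component if and only if they have the same
closed specialization. -/
theorem mk_eq_mk_iff (hX : ProEtW.IsWLocal X) {x y : X} :
    ConnectedComponents.mk x = ConnectedComponents.mk y ↔ closedPt hX x = closedPt hX y := by
  constructor
  · intro h
    have := totallyDisconnectedSpace_closedPoints hX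
    have h1 := (continuous_closedPt hX).image_connectedComponent_eq_singleton x
    have h2 : y ∈ connectedComponent x := by
      rw [← ConnectedComponents.coe_eq_coe']
      exact h.symm
    have h3 := Set.mem_image_of_mem
      (fun x ↦ (⟨closedPt hX x, closedPt_mem hX x⟩ : ProEtW.closedPoints X)) h2
    rw [h1] at h3
    exact (congr_arg Subtype.val (Set.mem_singleton_iff.mp h3)).symm
  · intro h
    rw [mk_eq_of_specializes (specializes_closedPt hX x),
      mk_eq_of_specializes (specializes_closedPt hX y), h]

/-- The space of closed points of a w-local space is homeomorphic to its space of components. -/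
noncomputable def homeo (hX : ProEtW.IsWLocal X) :
    ProEtW.closedPoints X ≃ₜ ConnectedComponents X := by
  have h1 := compactSpace_closedPoints hX
  have h2 := hX.1
  have h3 : T2Space (ConnectedComponents X) := t2Space_connectedComponents
  refine (ConnectedComponents.continuous_coe.comp continuous_subtype_val :
    Continuous (fun x : ProEtW.closedPoints X ↦ ConnectedComponents.mk x.1)).homeoOfEquivCompactToT2
    (f := Equiv.ofBijective _ ⟨?_, ?_⟩)
  · intro x y hxy
    have h4 := (mk_eq_mk_iff hX).mp hxy
    rw [closedPt_eq_self hX x.2, closedPt_eq_self hX y.2] at h4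
    exact Subtype.ext h4
  · intro z
    obtain ⟨x, rfl⟩ := ConnectedComponents.surjective_coe z
    exact ⟨⟨closedPt hX x, closedPt_mem hX x⟩,
      (mk_eq_of_specializes (specializes_closedPt hX x)).symm⟩

@[simp]
theorem homeo_apply (hX : ProEtW.IsWLocal X) (x : ProEtW.closedPoints X) :
    homeo hX x = ConnectedComponents.mk x.1 := rfl

end Groth.Agent.Proet2.WLocal
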