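import Groth.Agent.Proet2.IdentLoc
import Mathlib.RingTheory.LocalIso
import Mathlib.Algebra.Category.Ring.FilteredColimits
import Mathlib.CategoryTheory.Limits.Preserves.Over

/-!
# Ind-Zariski ring maps identify local rings; elements of filtered colimits of `A`-algebras
-/

set_option autoImplicit false
universe u

open CategoryTheory CategoryTheory.Limits

namespace Groth.Agent.Proet2.IndZar

variable {A B : Type u} [CommRing A] [CommRing B] [Algebra A B]

/-- A local isomorphism identifies local rings. -/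
theorem identifiesLocalRings_of_isLocalIso [Algebra.IsLocalIso A B] :
    EtPBC.IdentifiesLocalRings A B := by
  intro q
  obtain ⟨g, hg, hstd⟩ :=
    Algebra.IsLocalIso.exists_notMem_isStandardOpenImmersion (R := A) q.asIdeal
  obtain ⟨r, hr⟩ := hstd.exists_away
  -- `r` is not in `q`
  have hrq : algebraMap A B r ∉ q.asIdeal := by
    intro hmem
    have hu : IsUnit (algebraMap A (Localization.Away g) r) :=
      IsLocalization.Away.algebraMap_isUnit r
    rw [IsScalarTower.algebraMap_apply A B (Localization.Away g)] at hu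
    have h2 : algebraMap B (Localization.Away g) (algebraMap A B r) ∈
        q.asIdeal.map (algebraMap B (Localization.Away g)) := Ideal.mem_map_of_mem _ hmem
    have h3 := Ideal.eq_top_of_isUnit_mem _ h2 hu
    have h4 : (1 : Localization.Away g) ∈ q.asIdeal.map (algebraMap B (Localization.Away g)) :=
      h3 ▸ Submodule.mem_top
    rw [IsLocalization.mem_map_algebraMap_iff (Submonoid.powers g)] at h4
    obtain ⟨⟨⟨x, hx⟩, ⟨_, n, rfl⟩⟩, hxn⟩ := h4
    simp only [one_mul] at hxn
    rw [IsLocalization.eq_iff_exists (Submonoid.powers g)] at hxn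
    obtain ⟨⟨_, k, rfl⟩, hk⟩ := hxn
    simp only at hk
    have h5 : g ^ k * g ^ n ∈ q.asIdeal := by
      rw [hk]
      exact q.asIdeal.mul_mem_left _ hx
    rw [← pow_add] at h5
    exact hg (q.isPrime.mem_of_pow_mem _ h5)
  have hpow : ∀ n : ℕ, algebraMap A B (r ^ n) ∉ q.asIdeal := by
    intro n hn
    rw [map_pow] at hn
    exact hrq (q.isPrime.mem_of_pow_mem _ hn)
  have hgpow : ∀ n : ℕ, g ^ n ∉ q.asIdeal := fun n hn ↦ hg (q.isPrime.mem_of_pow_mem _ hn)
  -- surjectivity in elementwise form
  have hsurj : ∀ b : B, ∃ (a : A) (m n : ℕ),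
      g ^ m * (algebraMap A B (r ^ n) * b - algebraMap A B a) = 0 := by
    intro b
    obtain ⟨⟨a, ⟨_, n, rfl⟩⟩, h⟩ := IsLocalization.surj (Submonoid.powers r)
      (algebraMap B (Localization.Away g) b)
    simp only at h
    rw [IsScalarTower.algebraMap_apply A B (Localization.Away g),
      IsScalarTower.algebraMap_apply A B (Localization.Away g), ← map_mul,
      IsLocalization.eq_iff_exists (Submonoid.powers g)] at h
    obtain ⟨⟨_, m, rfl⟩, hm⟩ := h
    simp only at hm
    refine ⟨a, m, n, ?_⟩
    rw [mul_sub, mul_comm (algebraMap A B (r ^ n)) b, hm, sub_self]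
  apply IdentLoc.bijective_localRingHom
  · intro a s hs hsa
    obtain ⟨c, m, n, hc⟩ := hsurj s
    -- `c a = 0` in `B_g = A_r`
    have h1 : algebraMap A (Localization.Away g) (c * a) = 0 := by
      rw [IsScalarTower.algebraMap_apply A B (Localization.Away g),
        IsLocalization.map_eq_zero_iff (Submonoid.powers g)]
      refine ⟨⟨_, m, rfl⟩, ?_⟩
      simp only
      rw [mul_sub, sub_eq_zero] at hc
      rw [map_mul, ← mul_assoc, ← hc]
      calc g ^ m * (algebraMap A B (r ^ n) * s) * algebraMap A B a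
          = g ^ m * algebraMap A B (r ^ n) * (s * algebraMap A B a) := by ring
        _ = 0 := by rw [hsa, mul_zero]
    rw [IsLocalization.map_eq_zero_iff (Submonoid.powers r)] at h1
    obtain ⟨⟨_, k, rfl⟩, hk⟩ := h1
    simp only at hk
    refine ⟨r ^ k * c, ?_, by rw [mul_assoc]; exact hk⟩
    intro hmem
    rw [map_mul] at hmem
    rcases q.isPrime.mem_or_mem hmem with h | h
    · exact hpow k h
    · have h5 : g ^ m * (algebraMap A B (r ^ n) * s) ∈ q.asIdeal := by
        rw [mul_sub, sub_eq_zero] at hc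
        rw [hc]
        exact q.asIdeal.mul_mem_left _ h
      rcases q.isPrime.mem_or_mem h5 with h6 | h6
      · exact hgpow m h6
      · rcases q.isPrime.mem_or_mem h6 with h7 | h7
        · exact hpow n h7
        · exact hs h7
  · intro b
    obtain ⟨a, m, n, h⟩ := hsurj b
    exact ⟨a, r ^ n, g ^ m, hpow n, hgpow m, h⟩

/-- A filtered system of `A`-algebras with colimit `B`, unpacked elementwise. -/
theorem exists_filtered_elements {J : Type u} [SmallCategory J] [IsFiltered J]
    (D : J ⥤ Under (CommRingCat.of A)) (c : Cocone D) (hc : IsColimit c)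
    (e : c.pt ≅ Under.mk (CommRingCat.ofHom (algebraMap A B))) :
    ∃ ψ : ∀ j, (D.obj j).right →+* B,
      (∀ j (a : A), ψ j ((D.obj j).hom.hom a) = algebraMap A B a) ∧
      (∀ j k (f : j ⟶ k) (x : (D.obj j).right), ψ k ((D.map f).right.hom x) = ψ j x) ∧
      (∀ b : B, ∃ j, ∃ x : (D.obj j).right, ψ j x = b) ∧
      (∀ j (x y : (D.obj j).right), ψ j x = ψ j y →
        ∃ k, ∃ f : j ⟶ k, (D.map f).right.hom x = (D.map f).right.hom y) := by
  let G : Under (CommRingCat.of A) ⥤ Type u := Under.forget _ ⋙ forget CommRingCat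
  have hG : IsColimit (G.mapCocone c) := isColimitOfPreserves G hc
  let ψ : ∀ j, (D.obj j).right →+* B := fun j ↦ (c.ι.app j ≫ e.hom).right.hom
  have heinj : Function.Injective (e.hom.right.hom) := by
    intro x y hxy
    have h1 : e.hom.right ≫ e.inv.right = 𝟙 _ := by
      rw [← Under.comp_right, e.hom_inv_id, Under.id_right]
    have h2 : ∀ z, e.inv.right.hom (e.hom.right.hom z) = z := by
      intro z
      exact congr($(h1).hom z)
    rw [← h2 x, ← h2 y, hxy]
  refine ⟨ψ, ?_, ?_, ?_, ?_⟩
  · intro j a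
    have h := Under.w (c.ι.app j ≫ e.hom)
    exact congr($(h).hom a)
  · intro j k f x
    have h : D.map f ≫ c.ι.app k = c.ι.app j := c.w f
    have h' : (D.map f ≫ (c.ι.app k ≫ e.hom)).right = (c.ι.app j ≫ e.hom).right := by
      rw [← Category.assoc, h]
    exact congr($(h').hom x)
  · intro b
    obtain ⟨j, x, hx⟩ := Types.jointly_surjective_of_isColimit hG (e.inv.right.hom b)
    refine ⟨j, x, ?_⟩
    have h1 : e.inv.right ≫ e.hom.right = 𝟙 _ := by
      rw [← Under.comp_right, e.inv_hom_id, Under.id_right]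
    have h2 := congr($(h1).hom b)
    have hx' : (c.ι.app j).right.hom x = e.inv.right.hom b := hx
    change e.hom.right.hom ((c.ι.app j).right.hom x) = b
    rw [hx']
    exact h2
  · intro j x y hxy
    have hxy' : e.hom.right.hom ((c.ι.app j).right.hom x) =
        e.hom.right.hom ((c.ι.app j).right.hom y) := hxy
    have h1 := heinj hxy'
    have h2 : (G.mapCocone c).ι.app j x = (G.mapCocone c).ι.app j y := h1
    obtain ⟨k, f, g, hfg⟩ := (Types.FilteredColimit.isColimit_eq_iff _ hG).mp h2
    have hcoeq := IsFiltered.coeq_condition f g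
    refine ⟨IsFiltered.coeq f g, f ≫ IsFiltered.coeqHom f g, ?_⟩
    have hfg' : (D.map f).right.hom x = (D.map g).right.hom y := hfg
    have e1 : (D.map (f ≫ IsFiltered.coeqHom f g)).right.hom x =
        (D.map (IsFiltered.coeqHom f g)).right.hom ((D.map f).right.hom x) := by
      rw [D.map_comp]; rfl
    have e2 : (D.map (f ≫ IsFiltered.coeqHom f g)).right.hom y =
        (D.map (IsFiltered.coeqHom f g)).right.hom ((D.map g).right.hom y) := by
      rw [hcoeq, D.map_comp]; rfl
    rw [e1, e2, hfg']

/-- An ind-Zariski algebra identifies local rings. -/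
theorem identifiesLocalRings_of_isIndZariski (h : EtPBC.IsIndZariski A B) :
    EtPBC.IdentifiesLocalRings A B := by
  obtain ⟨J, _, _, D, c, hc, hD, ⟨e⟩⟩ := h
  obtain ⟨ψ, hψA, hψD, hrep, heq⟩ := exists_filtered_elements D c hc e
  intro q
  apply IdentLoc.bijective_localRingHom
  · intro a s hs hsa
    obtain ⟨j, x, rfl⟩ := hrep s
    have h1 : ψ j (x * (D.obj j).hom.hom a) = ψ j 0 := by
      rw [map_mul, hψA, hsa, map_zero]
    obtain ⟨k, f, hf⟩ := heq j _ _ h1
    let := (D.obj k).hom.hom.toAlgebra
    have := hD k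
    let qk : PrimeSpectrum (D.obj k).right := PrimeSpectrum.comap (ψ k) q
    have hbij := identifiesLocalRings_of_isLocalIso (A := A) (B := (D.obj k).right) qk
    rw [map_mul, map_zero] at hf
    have hfa : (D.map f).right.hom ((D.obj j).hom.hom a) = (D.obj k).hom.hom a := by
      exact congr($(Under.w (D.map f)).hom a)
    rw [hfa] at hf
    obtain ⟨t, ht, hta⟩ := IdentLoc.exists_mul_eq_zero qk hbij.1 a ((D.map f).right.hom x)
      (by
        change ψ k _ ∉ q.asIdeal
        rw [hψD]
        exact hs) hf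
    refine ⟨t, ?_, hta⟩
    have ht' : ψ k ((D.obj k).hom.hom t) ∉ q.asIdeal := ht
    rwa [hψA] at ht'
  · intro b
    obtain ⟨j, x, rfl⟩ := hrep b
    let := (D.obj j).hom.hom.toAlgebra
    have := hD j
    let qj : PrimeSpectrum (D.obj j).right := PrimeSpectrum.comap (ψ j) q
    have hbij := identifiesLocalRings_of_isLocalIso (A := A) (B := (D.obj j).right) qj
    obtain ⟨a, t, v, ht, hv, hvx⟩ := IdentLoc.exists_mul_sub_eq_zero qj hbij.2 x
    refine ⟨a, t, ψ j v, ?_, hv, ?_⟩
    · have ht' : ψ j ((D.obj j).hom.hom t) ∉ q.asIdeal := ht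
      rwa [hψA] at ht'
    · have h2 := congr(ψ j $hvx)
      rw [map_mul, map_sub, map_mul, map_zero] at h2
      have e1 : ψ j (algebraMap A (D.obj j).right t) = algebraMap A B t := hψA j t
      have e2 : ψ j (algebraMap A (D.obj j).right a) = algebraMap A B a := hψA j a
      rwa [e1, e2] at h2

end Groth.Agent.Proet2.IndZar
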